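import Groth.Agent.FibreDim.Chart
import Groth.Agent.FlatDescent.Criterion

/-!
# Flat algebras near generic points of fibres

If `φ : A[X₁,…,Xₙ] → B` sends a prime `q` to the generic point of its fibre of affine space, and `B` is
flat and finitely presented over `A`, then `φ` is flat at `q`, so every generalization of `q` is, in its
own fibre over `A`, generalized by a point over the generic point of affine space.
-/

set_option autoImplicit false

universe u

namespace Groth.Agent.FlatGenFibre

open Groth.Agent.FibreDim

/-- A module on which the nonzero elements of a domain act invertibly is flat. -/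
theorem flat_of_bijective_smul {D L : Type u} [CommRing D] [IsDomain D] [AddCommGroup L] [Module D L]
    (h : ∀ d : D, d ≠ 0 → Function.Bijective fun x : L => d • x) : Module.Flat D L := by
  haveI : IsLocalizedModule (nonZeroDivisors D) (LinearMap.id : L →ₗ[D] L) := by
    refine ⟨fun d => (Module.End.isUnit_iff _).2 ?_, fun y => ⟨⟨y, 1⟩, one_smul _ _⟩,
      fun {a b} hab => ⟨1, congrArg _ hab⟩⟩
    exact h (d : D) (nonZeroDivisors.ne_zero d.2)
  haveI : Module.Flat D (LocalizedModule (nonZeroDivisors D) L) := by
    haveI : Module.Flat D (FractionRing D) := IsLocalization.flat (FractionRing D) (nonZeroDivisors D)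
    exact Module.Flat.trans D (FractionRing D) _
  exact Module.Flat.of_linearEquiv (IsLocalizedModule.iso (nonZeroDivisors D) (LinearMap.id : L →ₗ[D] L)).symm

variable {A B : Type u} [CommRing A] [CommRing B] [Algebra A B] {n : ℕ}

/-- See the file's docstring. -/
theorem exists_le_injective_quotMap [Module.Flat A B] [Algebra.FinitePresentation A B]
    (φ : MvPolynomial (Fin n) A →ₐ[A] B) (q q' : Ideal B) [q.IsPrime] [q'.IsPrime] (hle : q' ≤ q)
    (hq : Function.Injective (quotMap φ q)) :
    ∃ g : Ideal B, g.IsPrime ∧ g ≤ q' ∧ g.under A = q'.under A ∧ Function.Injective (quotMap φ g) := by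
  let S := MvPolynomial (Fin n) A
  letI : Algebra S B := φ.toRingHom.toAlgebra
  haveI : IsScalarTower A S B := IsScalarTower.of_algebraMap_eq fun a => (φ.commutes a).symm
  have hker : ∀ p : Ideal A, p.map (algebraMap A S) =
      RingHom.ker (MvPolynomial.map (σ := Fin n) (Ideal.Quotient.mk p)) := fun p => by
    rw [MvPolynomial.ker_map, Ideal.mk_ker, MvPolynomial.algebraMap_eq]
  have hprime : ∀ p : Ideal A, p.IsPrime → (p.map (algebraMap A S)).IsPrime := fun p hp => by
    rw [hker]
    exact RingHom.ker_isPrime _
  haveI : (q.under A).IsPrime := inferInstance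
  haveI hJ : ((q.comap (algebraMap A B)).map (algebraMap A S)).IsPrime := hprime _ inferInstance
  have hqS : q.comap (algebraMap S B) = (q.comap (algebraMap A B)).map (algebraMap A S) := by
    rw [hker]
    exact (injective_quotMap_iff φ q).1 hq
  haveI : Algebra.FiniteType A S := inferInstance
  have hflat : FlatCA.FlatAt A q B := by
    show Module.Flat A (LocalizedModule q.primeCompl B)
    haveI : Module.Flat B (LocalizedModule q.primeCompl B) := IsLocalization.flat (Localization.AtPrime q) q.primeCompl
    exact Module.Flat.trans A B _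
  haveI : Module.FinitePresentation B B := inferInstance
  have hfl : FlatCA.FlatAt S q B := by
    refine Groth.FlatDescent.flat_fibre_criterion_ft A S (C := B) (M := B) q hflat ?_
    generalize hJeq : (q.comap (algebraMap A B)).map (algebraMap A S) = J
    haveI : J.IsPrime := hJeq ▸ hJ
    refine flat_of_bijective_smul fun d hd => ?_
    obtain ⟨c, rfl⟩ := Ideal.Quotient.mk_surjective d
    have hc : algebraMap S B c ∉ q := fun h => hd (Ideal.Quotient.eq_zero_iff_mem.2 (by
      rw [← hJeq, ← hqS]
      exact h))
    let L := LocalizedModule q.primeCompl B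
    have hbij : Function.Bijective (c • (LinearMap.id : L →ₗ[S] L)) := by
      have h1 := (Module.End.isUnit_iff _).1
        (IsLocalizedModule.map_units (LocalizedModule.mkLinearMap q.primeCompl B) (⟨algebraMap S B c, hc⟩ : q.primeCompl))
      convert h1 using 1
      funext x
      exact (algebraMap_smul B c x).symm
    let e : L ≃ₗ[S] L := LinearEquiv.ofBijective _ hbij
    refine ⟨fun a b hab => ?_, fun y => ?_⟩
    · obtain ⟨a, rfl⟩ := Submodule.Quotient.mk_surjective _ a
      obtain ⟨b, rfl⟩ := Submodule.Quotient.mk_surjective _ b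
      refine (Submodule.Quotient.eq _).2 ?_
      have h2 : c • a - c • b ∈ J • (⊤ : Submodule S L) := (Submodule.Quotient.eq _).1 hab
      have h3 := Submodule.mem_map_of_mem (f := e.symm.toLinearMap) h2
      rw [Submodule.map_smul''] at h3
      have h4 : e.symm.toLinearMap (c • a - c • b) = a - b := by
        rw [← smul_sub]
        exact e.symm_apply_apply (a - b)
      rw [h4] at h3
      exact Submodule.smul_mono le_rfl le_top h3
    · obtain ⟨y, rfl⟩ := Submodule.Quotient.mk_surjective _ y
      obtain ⟨x, hx⟩ := hbij.2 y
      exact ⟨Submodule.Quotient.mk x, congrArg Submodule.Quotient.mk hx⟩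
  let Bq := Localization.AtPrime q
  haveI : Module.Flat S Bq :=
    (Groth.FlatDescent.flatOn_iff_flat q.primeCompl (Algebra.linearMap B Bq)).mp
      ((Groth.FlatDescent.flatOn_primeCompl_iff q).mpr hfl)
  haveI : Algebra.HasGoingDown S Bq := inferInstance
  haveI hp' : ((q'.comap (algebraMap A B)).map (algebraMap A S)).IsPrime := hprime _ inferInstance
  have hdisj : Disjoint (q.primeCompl : Set B) (q' : Set B) := Set.disjoint_left.2 fun x hx hx' => hx (hle hx')
  let Q' := q'.map (algebraMap B Bq)
  haveI : Q'.IsPrime := IsLocalization.isPrime_of_isPrime_disjoint q.primeCompl Bq q' inferInstance hdisj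
  have hQ' : Q'.comap (algebraMap B Bq) = q' := IsLocalization.under_map_of_isPrime_disjoint q.primeCompl Bq inferInstance hdisj
  have hle' : (q'.comap (algebraMap A B)).map (algebraMap A S) ≤ Q'.under S := by
    rw [Ideal.map_le_iff_le_comap]
    show _ ≤ (Q'.comap (algebraMap S Bq)).comap (algebraMap A S)
    rw [Ideal.comap_comap, ← IsScalarTower.algebraMap_eq A S Bq, IsScalarTower.algebraMap_eq A B Bq,
      ← Ideal.comap_comap, hQ']
  obtain ⟨G, hG, hGp, hGo⟩ := Ideal.exists_ideal_le_liesOver_of_le
    (p := (q'.comap (algebraMap A B)).map (algebraMap A S)) (q := Q'.under S) Q' hle'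
  have hgle : G.comap (algebraMap B Bq) ≤ q' := hQ'.le.trans' (Ideal.comap_mono hG)
  have hgS : (G.comap (algebraMap B Bq)).comap (algebraMap S B) =
      (q'.comap (algebraMap A B)).map (algebraMap A S) := by
    rw [Ideal.comap_comap, ← IsScalarTower.algebraMap_eq S B Bq]
    exact hGo.over.symm
  have hgA : (G.comap (algebraMap B Bq)).under A = q'.under A := by
    refine le_antisymm (Ideal.comap_mono hgle) ?_
    show q'.comap (algebraMap A B) ≤ (G.comap (algebraMap B Bq)).comap (algebraMap A B)
    rw [IsScalarTower.algebraMap_eq A S B, ← Ideal.comap_comap, ← Ideal.comap_comap, hgS, Ideal.comap_comap,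
      ← IsScalarTower.algebraMap_eq A S B]
    exact Ideal.le_comap_map
  refine ⟨G.comap (algebraMap B Bq), Ideal.IsPrime.comap _, hgle, hgA, ?_⟩
  rw [injective_quotMap_iff, hgA]
  exact hgS.trans (hker _)

end Groth.Agent.FlatGenFibre
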